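import Mathlib

/-!
# Automorphism counts in linear categories over finite fields
-/

set_option autoImplicit false

universe v u w

open CategoryTheory CategoryTheory.Limits

noncomputable section

namespace EllAutLib

variable {C : Type u} [Category.{v} C] [Preadditive C] [HasBinaryBiproducts C]
variable {k : Type w} [Field k] [Linear k C]

omit [HasBinaryBiproducts C] in
theorem card_aut (A : C) : Nat.card (Aut A) = Nat.card (End A)ˣ :=
  (Nat.card_congr (Aut.unitsEndEquivAut A).toEquiv).symm

omit [HasBinaryBiproducts C] in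
theorem card_aut_congr {A B : C} (e : A ≅ B) : Nat.card (Aut A) = Nat.card (Aut B) :=
  Nat.card_congr e.conjAut.toEquiv

omit [HasBinaryBiproducts C] in
theorem card_units_congr {M N : Type*} [Monoid M] [Monoid N] (e : M ≃* N) : Nat.card Mˣ = Nat.card Nˣ :=
  Nat.card_congr (Units.mapEquiv e).toEquiv

/-- Endomorphisms of a sum of two objects without maps between them. -/
def endBiprod (A B : C) (h₁ : ∀ φ : A ⟶ B, φ = 0) (h₂ : ∀ φ : B ⟶ A, φ = 0) :
    End (A ⊞ B) ≃* End A × End B where
  toFun x := (End.of (biprod.inl ≫ x ≫ biprod.fst), End.of (biprod.inr ≫ x ≫ biprod.snd))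
  invFun p := End.of (biprod.map p.1 p.2)
  left_inv x := by
    change biprod.map (biprod.inl ≫ x ≫ biprod.fst) (biprod.inr ≫ x ≫ biprod.snd) = x
    apply biprod.hom_ext' <;> apply biprod.hom_ext
    · simp
    · rw [h₁ ((biprod.inl ≫ x) ≫ biprod.snd)]; simp
    · rw [h₂ ((biprod.inr ≫ x) ≫ biprod.fst)]; simp
    · simp
  right_inv p := by
    obtain ⟨a, b⟩ := p
    ext
    · change biprod.inl ≫ biprod.map a b ≫ biprod.fst = a; simp
    · change biprod.inr ≫ biprod.map a b ≫ biprod.snd = b; simp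
  map_mul' x y := by
    ext
    · change biprod.inl ≫ (y ≫ x) ≫ biprod.fst = (biprod.inl ≫ y ≫ biprod.fst) ≫ biprod.inl ≫ x ≫ biprod.fst
      have e : biprod.inl ≫ y = (biprod.inl ≫ y ≫ biprod.fst) ≫ (biprod.inl : A ⟶ A ⊞ B) := by
        apply biprod.hom_ext
        · simp
        · rw [h₁ ((biprod.inl ≫ y) ≫ biprod.snd)]; simp
      rw [Category.assoc, ← Category.assoc biprod.inl y, e]
      simp only [Category.assoc]
    · change biprod.inr ≫ (y ≫ x) ≫ biprod.snd = (biprod.inr ≫ y ≫ biprod.snd) ≫ biprod.inr ≫ x ≫ biprod.snd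
      have e : biprod.inr ≫ y = (biprod.inr ≫ y ≫ biprod.snd) ≫ (biprod.inr : B ⟶ A ⊞ B) := by
        apply biprod.hom_ext
        · rw [h₂ ((biprod.inr ≫ y) ≫ biprod.fst)]; simp
        · simp
      rw [Category.assoc, ← Category.assoc biprod.inr y, e]
      simp only [Category.assoc]

/-- Automorphisms of a sum of two objects without maps between them. -/
theorem card_aut_biprod (A B : C) (h₁ : ∀ φ : A ⟶ B, φ = 0) (h₂ : ∀ φ : B ⟶ A, φ = 0) :
    Nat.card (Aut (A ⊞ B)) = Nat.card (Aut A) * Nat.card (Aut B) := by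
  rw [card_aut, card_aut, card_aut, card_units_congr (endBiprod A B h₁ h₂), Nat.card_congr MulEquiv.prodUnits.toEquiv,
    Nat.card_prod]

section Matrix

variable [HasFiniteBiproducts C]

omit [HasBinaryBiproducts C] in
/-- Automorphisms of a power of an object whose endomorphisms are scalars. -/
theorem card_aut_power [Fintype k] {L : C} (hL : Function.Bijective (algebraMap k (End L))) (n : ℕ) :
    Nat.card (Aut (⨁ fun _ : Fin n => L)) =
      ∏ i : Fin n, (Nat.card k ^ n - Nat.card k ^ (i : ℕ)) := by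
  classical
  let E : k ≃+* End L := RingEquiv.ofBijective _ hL
  let toM : End (⨁ fun _ : Fin n => L) → Matrix (Fin n) (Fin n) k := fun x => Matrix.of fun i j =>
    E.symm (End.of (biproduct.components x j i))
  have hbij : Function.Bijective toM := by
    refine ⟨fun x y h => biproduct.matrixEquiv.injective ?_, fun M => ?_⟩
    · funext j i
      exact E.symm.injective (congrFun (congrFun h i) j)
    · refine ⟨biproduct.matrix fun j i => (E (M i j) : L ⟶ L), ?_⟩
      ext i j
      change E.symm (biproduct.components (biproduct.matrix fun j i => (E (M i j) : L ⟶ L)) j i) = M i j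
      rw [biproduct.matrix_components]
      exact E.symm_apply_apply _
  have hmul : ∀ x y, toM (x * y) = toM x * toM y := fun x y => by
    ext i j
    rw [Matrix.mul_apply]
    apply E.injective
    change E (E.symm _) = _
    rw [E.apply_symm_apply, map_sum]
    change biproduct.ι (fun _ : Fin n => L) j ≫ (y ≫ x) ≫ biproduct.π _ i = _
    have h1 : ∀ l : Fin n, E (toM x i l * toM y l j) =
        (biproduct.ι (fun _ : Fin n => L) j ≫ y ≫ biproduct.π _ l) ≫
          biproduct.ι (fun _ : Fin n => L) l ≫ x ≫ biproduct.π (fun _ : Fin n => L) i := fun l => by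
      rw [map_mul]
      change E (E.symm _) * E (E.symm _) = _
      rw [E.apply_symm_apply, E.apply_symm_apply]
      rfl
    simp only [h1, Category.assoc]
    rw [← Preadditive.comp_sum, ← Preadditive.comp_sum]
    congr 2
    simp only [← Category.assoc]
    rw [← Preadditive.sum_comp, ← Preadditive.sum_comp, biproduct.total, Category.id_comp]
  rw [card_aut, card_units_congr (MulEquiv.mk' (Equiv.ofBijective toM hbij) hmul), Matrix.card_GL_field]
  rw [Fintype.card_eq_nat_card]

omit [HasBinaryBiproducts C] in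
/-- Automorphisms of an object whose endomorphisms are scalars. -/
theorem card_aut_scalar {L : C} (hL : Function.Bijective (algebraMap k (End L))) :
    Nat.card (Aut L) = Nat.card k - 1 := by
  rw [card_aut, ← card_units_congr (RingEquiv.ofBijective _ hL).toMulEquiv, Nat.card_units]

end Matrix

section SelfExt

variable {O F : C} (f : O ⟶ F) (g : F ⟶ O)

/-- The endomorphism of `F` with given coordinates. -/
def mkF (p : k × k) : End F := End.of (p.1 • 𝟙 F + p.2 • (g ≫ f))

/-- The endomorphism of `O ⊞ F` with given coordinates. -/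
def mkE (p : (k × k) × (k × k × k)) : End (O ⊞ F) :=
  End.of (biprod.desc (biprod.lift (p.1.1 • 𝟙 O) (p.2.1 • f)) (biprod.lift (p.2.2.1 • g) (p.1.2 • 𝟙 F + p.2.2.2 • (g ≫ f))))

variable {f g} (hfg : f ≫ g = 0)

include hfg

omit [HasBinaryBiproducts C] in
theorem mkF_mul (p q : k × k) :
    mkF f g p ≫ mkF f g q = mkF f g (p.1 * q.1, p.1 * q.2 + p.2 * q.1) := by
  simp only [mkF, End.of, Preadditive.add_comp, Preadditive.comp_add, Linear.smul_comp, Linear.comp_smul,
    Category.id_comp, Category.comp_id, Category.assoc, reassoc_of% hfg, zero_comp, comp_zero, smul_zero, smul_smul]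
  module

omit [HasBinaryBiproducts C] in
theorem card_aut_ext [Finite k] (hbij : Function.Bijective (mkF (k := k) f g)) :
    Nat.card (Aut F) = (Nat.card k - 1) * Nat.card k := by
  rw [card_aut]
  let e : k × k ≃ End F := Equiv.ofBijective _ hbij
  have hone : (1 : End F) = mkF f g ((1 : k), 0) := by
    change 𝟙 F = (1 : k) • 𝟙 F + (0 : k) • (g ≫ f)
    simp
  have hunit : ∀ p : k × k, IsUnit (e p) ↔ p.1 ≠ 0 := fun p => by
    constructor
    · rintro ⟨v, hv⟩ h0
      obtain ⟨q, hq⟩ := e.surjective (↑v⁻¹ : End F)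
      have h1 : e q ≫ e p = (1 : End F) := by
        change e p * e q = 1
        rw [hq, ← hv]
        exact v.mul_inv
      rw [show e q ≫ e p = _ from mkF_mul hfg q p, hone] at h1
      have := congrArg Prod.fst (hbij.1 h1)
      simp [h0] at this
    · intro h0
      haveI : Finite (End F) := Finite.of_equiv _ e
      refine IsUnit.of_mul_eq_one (e (p.1⁻¹, -p.2 * p.1⁻¹ * p.1⁻¹)) ?_
      change _ ≫ _ = _
      rw [show e (p.1⁻¹, -p.2 * p.1⁻¹ * p.1⁻¹) ≫ e p = _ from mkF_mul hfg _ p, hone]
      congr 1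
      ext
      · exact inv_mul_cancel₀ h0
      · simp only; field_simp; ring
  let e' : (End F)ˣ ≃ {x : End F // IsUnit x} :=
    { toFun := fun v => ⟨v, v.isUnit⟩, invFun := fun x => x.2.unit, left_inv := fun v => Units.ext rfl,
      right_inv := fun x => rfl }
  rw [Nat.card_congr e', ← Nat.card_congr ((e.subtypeEquiv (fun p => (hunit p).symm))),
    Nat.card_congr (Equiv.prodSubtypeFstEquivSubtypeProd (p := fun a : k => a ≠ 0) (β := k)), Nat.card_prod,
    ← Nat.card_units k, Nat.card_congr unitsEquivNeZero]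

theorem mkE_mul (p q : (k × k) × (k × k × k)) :
    mkE f g p ≫ mkE f g q = mkE f g ((p.1.1 * q.1.1, p.1.2 * q.1.2),
      p.1.1 * q.2.1 + p.2.1 * q.1.2, p.2.2.1 * q.1.1 + p.1.2 * q.2.2.1,
      p.2.2.1 * q.2.1 + p.1.2 * q.2.2.2 + p.2.2.2 * q.1.2) := by
  simp only [mkE, End.of]
  apply biprod.hom_ext' <;> apply biprod.hom_ext <;>
    simp only [Category.assoc, biprod.inl_desc_assoc, biprod.inr_desc_assoc, biprod.lift_desc, biprod.inl_desc,
      biprod.inr_desc, biprod.lift_fst, biprod.lift_snd, Preadditive.add_comp, Preadditive.comp_add,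
      Linear.smul_comp, Linear.comp_smul, Category.id_comp, Category.comp_id, hfg, reassoc_of% hfg, zero_comp,
      comp_zero, smul_zero, smul_smul] <;> module

theorem card_aut_sum [Finite k] (hbij : Function.Bijective (mkE (k := k) f g)) :
    Nat.card (Aut (O ⊞ F)) = (Nat.card k - 1) ^ 2 * Nat.card k ^ 3 := by
  rw [card_aut]
  let e : (k × k) × (k × k × k) ≃ End (O ⊞ F) := Equiv.ofBijective _ hbij
  have hone : (1 : End (O ⊞ F)) = mkE f g (((1 : k), 1), 0, 0, 0) := by
    change 𝟙 _ = biprod.desc (biprod.lift ((1 : k) • 𝟙 O) ((0 : k) • f))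
      (biprod.lift ((0 : k) • g) ((1 : k) • 𝟙 F + (0 : k) • (g ≫ f)))
    apply biprod.hom_ext' <;> apply biprod.hom_ext <;> simp
  have hunit : ∀ p : (k × k) × (k × k × k), IsUnit (e p) ↔ p.1.1 ≠ 0 ∧ p.1.2 ≠ 0 := fun p => by
    constructor
    · rintro ⟨v, hv⟩
      obtain ⟨q, hq⟩ := e.surjective (↑v⁻¹ : End (O ⊞ F))
      have h1 : e q ≫ e p = (1 : End (O ⊞ F)) := by
        change e p * e q = 1
        rw [hq, ← hv]
        exact v.mul_inv
      rw [show e q ≫ e p = _ from mkE_mul hfg q p, hone] at h1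
      have h2 := congrArg Prod.fst (hbij.1 h1)
      refine ⟨fun h0 => ?_, fun h0 => ?_⟩ <;> simp [h0] at h2
    · rintro ⟨ha, hc⟩
      haveI : Finite (End (O ⊞ F)) := Finite.of_equiv _ e
      obtain ⟨⟨a, c⟩, b, d, x⟩ := p
      dsimp only at ha hc
      refine IsUnit.of_mul_eq_one (e ((a⁻¹, c⁻¹), -b * a⁻¹ * c⁻¹, -d * a⁻¹ * c⁻¹,
        (d * b * a⁻¹ - x) * c⁻¹ * c⁻¹)) ?_
      change _ ≫ _ = _
      rw [show e ((a⁻¹, c⁻¹), -b * a⁻¹ * c⁻¹, -d * a⁻¹ * c⁻¹, (d * b * a⁻¹ - x) * c⁻¹ * c⁻¹) ≫
        e ((a, c), b, d, x) = _ from mkE_mul hfg _ _, hone]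
      congr 1
      simp only [Prod.mk.injEq]
      refine ⟨⟨?_, ?_⟩, ?_, ?_, ?_⟩ <;> field_simp <;> ring
  let e' : (End (O ⊞ F))ˣ ≃ {x : End (O ⊞ F) // IsUnit x} :=
    { toFun := fun v => ⟨v, v.isUnit⟩, invFun := fun x => x.2.unit, left_inv := fun v => Units.ext rfl,
      right_inv := fun x => rfl }
  rw [Nat.card_congr e', ← Nat.card_congr ((e.subtypeEquiv (fun p => (hunit p).symm))),
    Nat.card_congr (Equiv.prodSubtypeFstEquivSubtypeProd (p := fun a : k × k => a.1 ≠ 0 ∧ a.2 ≠ 0)
      (β := k × k × k)), Nat.card_prod,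
    Nat.card_congr (Equiv.subtypeProdEquivProd (p := fun a : k => a ≠ 0) (q := fun a : k => a ≠ 0)), Nat.card_prod,
    ← Nat.card_congr (unitsEquivNeZero (G₀ := k)), Nat.card_units, Nat.card_prod, Nat.card_prod]
  ring

end SelfExt

end EllAutLib

end
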