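import Groth.Agent.EllAutLib.Alg
import Groth.Agent.ExtLineLib.Main
import Groth.Agent.FibVALib.Curve
import Groth.Agent.H0Lib.Apply

/-!
# Automorphisms of some bundles on curves over finite fields
-/

set_option autoImplicit false
set_option linter.style.haveILetI false
set_option linter.unusedSectionVars false
set_option maxHeartbeats 1000000
universe u

open CategoryTheory CategoryTheory.Limits AlgebraicGeometry TopologicalSpace Opposite
open DevissLib CurvLib CurveVBLib

noncomputable section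

namespace EllAutLib

attribute [local instance] Abelian.hasFiniteBiproducts

variable {X : Scheme.{u}} {k : Type u} [Field k] [X.Over (Spec (CommRingCat.of k))]
  [IsIntegral X] [IsProper (X ↘ Spec (CommRingCat.of k))] [Smooth (X ↘ Spec (CommRingCat.of k))]
  [GeometricallyIntegral (X ↘ Spec (CommRingCat.of k))] (hdim : topologicalKrullDim X = 1)

include hdim

/-- The endomorphisms of a line bundle are the scalars. -/
theorem scalar_bijective [Finite k] {L : X.Modules} (hL : PicF.IsInvertible L) :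
    Function.Bijective (algebraMap k (End L)) := by
  haveI := CurvLib.isNoetherian k (X := X)
  have hne : ∀ A : X.Modules, PicF.IsInvertible A → Nontrivial (End A) := fun A hA =>
    nontrivial_of_ne (1 : End A) 0 fun h => by
      have h' : 𝟙 A = 0 := h
      have := genRank_of_isZero ((IsZero.iff_id_eq_zero A).2 h')
      rw [genRank_eq (CurvLib.locFree_of_isInvertible hA)] at this
      omega
  have hO : Module.finrank k (Coh.structureModule X ⟶ Coh.structureModule X) = 1 := by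
    rw [GenusOneSSLib.finrank_hom]; exact FibVALib.finrank_h0_structure k X hdim
  haveI : Module.Finite k (Coh.structureModule X ⟶ Coh.structureModule X) := Module.finite_of_finrank_eq_succ hO
  have hcO : Nat.card (Coh.structureModule X ⟶ Coh.structureModule X) = Nat.card k := by
    rw [Module.natCard_eq_pow_finrank (K := k), hO, pow_one]
  obtain ⟨eL⟩ := MiscFlat6.nonempty_dualIso hL
  haveI : (tensorLeft' L).IsEquivalence := VBP1Lib.isEquivalence_tensor (L := L) (M := MiscFlat6.dual L) eL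
  let i : (tensorLeft' L).obj (Coh.structureModule X) ≅ L := (CurveSDLib.unitR L).symm
  have hcL : Nat.card (End L) = Nat.card k := by
    rw [← hcO]
    exact (Nat.card_congr (((Functor.FullyFaithful.ofFullyFaithful (tensorLeft' L)).homEquiv
      (X := Coh.structureModule X) (Y := Coh.structureModule X)).trans (Iso.homCongr i i))).symm
  haveI := hne L hL
  haveI : Finite (End L) := Nat.finite_of_card_ne_zero (by rw [hcL]; exact Nat.card_pos.ne')
  exact (algebraMap k (End L)).injective.bijective_of_nat_card_le (le_of_eq hcL)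

theorem exists_smul [Finite k] {L : X.Modules} (hL : PicF.IsInvertible L) (φ : L ⟶ L) : ∃ c : k, c • 𝟙 L = φ := by
  obtain ⟨c, hc⟩ := (scalar_bijective (k := k) hdim hL).2 φ
  exact ⟨c, by rw [← hc, Algebra.algebraMap_eq_smul_one]; rfl⟩

omit [GeometricallyIntegral (X ↘ Spec (CommRingCat.of k))] in
/-- No maps between distinct line bundles of equal degree. -/
theorem hom_eq_zero_line {L L' : X.Modules} (hL : PicF.IsInvertible L) (hL' : PicF.IsInvertible L')
    (hd : Curv2.deg k X L 1 = Curv2.deg k X L' 1) (hne : ¬ Nonempty (L ≅ L')) (φ : L ⟶ L') : φ = 0 := by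
  by_contra h
  have h1 := CurvLib.locFree_of_isInvertible hL
  have h1' := CurvLib.locFree_of_isInvertible hL'
  haveI := mono_of_line (k := k) hdim h1 h1' h
  haveI := (dg_le_of_mono (k := k) hdim (isCoh_of_locFree h1) (genRank_eq h1) h1' φ).2 (by
    rw [← deg_eq_dg h1, ← deg_eq_dg h1', hd])
  exact hne ⟨asIso φ⟩

variable {T : ShortComplex X.Modules} (hT : T.ShortExact) (e₁ : T.X₁ ≅ Coh.structureModule X)
  (e₃ : T.X₃ ≅ Coh.structureModule X) (hns : ¬ IsSplitEpi T.g)

omit [IsProper (X ↘ Spec (CommRingCat.of k))] [Smooth (X ↘ Spec (CommRingCat.of k))]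
  [GeometricallyIntegral (X ↘ Spec (CommRingCat.of k))] [IsIntegral X] hdim in
theorem fg_zero : (e₁.inv ≫ T.f) ≫ (T.g ≫ e₃.hom) = 0 := by simp

include hT e₁ e₃ hns

theorem hom_O_F [Finite k] (φ : Coh.structureModule X ⟶ T.X₂) : ∃ c : k, φ = c • (e₁.inv ≫ T.f) := by
  haveI := hT.mono_f
  obtain ⟨a, ha⟩ := exists_smul (k := k) hdim CurvLib.isInvertible_structureModule (φ ≫ T.g ≫ e₃.hom)
  rcases eq_or_ne a 0 with rfl | ha0
  · rw [zero_smul] at ha
    have h0 : φ ≫ T.g = 0 := by
      rw [← cancel_mono e₃.hom, Category.assoc, ← ha, zero_comp]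
    obtain ⟨c, hc⟩ := exists_smul (k := k) hdim CurvLib.isInvertible_structureModule (hT.exact.lift φ h0 ≫ e₁.hom)
    refine ⟨c, ?_⟩
    have h2 : hT.exact.lift φ h0 = c • e₁.inv := by
      rw [← cancel_mono e₁.hom, ← hc, Linear.smul_comp, e₁.inv_hom_id]
    rw [← hT.exact.lift_f φ h0, h2, Linear.smul_comp]
  · refine absurd (IsSplitEpi.mk' ⟨e₃.hom ≫ (a⁻¹ • φ), ?_⟩) hns
    rw [← cancel_mono e₃.hom, Category.assoc, Category.assoc, Linear.smul_comp, ← ha]
    simp [smul_smul, ha0]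

theorem hom_F_O [Finite k] (φ : T.X₂ ⟶ Coh.structureModule X) : ∃ c : k, φ = c • (T.g ≫ e₃.hom) := by
  haveI := hT.epi_g
  obtain ⟨a, ha⟩ := exists_smul (k := k) hdim CurvLib.isInvertible_structureModule ((e₁.inv ≫ T.f) ≫ φ)
  rcases eq_or_ne a 0 with rfl | ha0
  · rw [zero_smul] at ha
    have h0 : T.f ≫ φ = 0 := by
      rw [← cancel_epi e₁.inv, ← Category.assoc, ← ha, comp_zero]
    obtain ⟨c, hc⟩ := exists_smul (k := k) hdim CurvLib.isInvertible_structureModule (e₃.inv ≫ hT.exact.desc φ h0)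
    refine ⟨c, ?_⟩
    have h2 : hT.exact.desc φ h0 = c • e₃.hom := by
      rw [← cancel_epi e₃.inv, ← hc, Linear.comp_smul, e₃.inv_hom_id]
    rw [← hT.exact.g_desc φ h0, h2, Linear.comp_smul]
  · let sp := ShortComplex.Splitting.ofExactOfRetraction T hT.exact ((a⁻¹ • φ) ≫ e₁.inv) (by
      rw [← cancel_epi e₁.inv, ← cancel_mono e₁.hom, Category.assoc, Category.assoc, Category.assoc, e₁.inv_hom_id,
        Category.comp_id, Linear.comp_smul, Linear.comp_smul, ← Category.assoc, ← ha, smul_smul,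
        inv_mul_cancel₀ ha0, one_smul]
      simp) hT.epi_g
    exact absurd (IsSplitEpi.mk' ⟨sp.s, sp.s_g⟩) hns

theorem hom_F_F [Finite k] (φ : T.X₂ ⟶ T.X₂) :
    ∃ a b : k, φ = a • 𝟙 _ + b • ((T.g ≫ e₃.hom) ≫ (e₁.inv ≫ T.f)) := by
  haveI := hT.epi_g
  obtain ⟨a, ha⟩ := hom_O_F (k := k) hdim hT e₁ e₃ hns ((e₁.inv ≫ T.f) ≫ φ)
  have h0 : T.f ≫ (φ - a • 𝟙 _) = 0 := by
    rw [← cancel_epi e₁.inv, comp_zero, ← Category.assoc, Preadditive.comp_sub, ha, Linear.comp_smul,
      Category.comp_id, sub_self]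
  obtain ⟨b, hb⟩ := hom_O_F (k := k) hdim hT e₁ e₃ hns (e₃.inv ≫ hT.exact.desc _ h0)
  refine ⟨a, b, ?_⟩
  have h1 : φ - a • 𝟙 _ = b • ((T.g ≫ e₃.hom) ≫ e₁.inv ≫ T.f) :=
    calc φ - a • 𝟙 _ = T.g ≫ hT.exact.desc _ h0 := (hT.exact.g_desc _ h0).symm
      _ = (T.g ≫ e₃.hom) ≫ e₃.inv ≫ hT.exact.desc _ h0 := by simp
      _ = _ := by rw [hb, Linear.comp_smul]
  rw [← h1]
  abel

omit [IsProper (X ↘ Spec (CommRingCat.of k))] [Smooth (X ↘ Spec (CommRingCat.of k))]
  [GeometricallyIntegral (X ↘ Spec (CommRingCat.of k))] hdim hns in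
theorem ne_zero : e₁.inv ≫ T.f ≠ 0 ∧ T.g ≫ e₃.hom ≠ 0 ∧ (T.g ≫ e₃.hom) ≫ e₁.inv ≫ T.f ≠ 0 := by
  haveI := hT.mono_f
  haveI := hT.epi_g
  have hO : ¬ IsZero (Coh.structureModule X) := fun hz => by
    have := genRank_of_isZero hz
    rw [genRank_eq (CurvLib.locFree_of_isInvertible CurvLib.isInvertible_structureModule)] at this
    omega
  have hf : e₁.inv ≫ T.f ≠ 0 := fun h => hO ((IsZero.iff_id_eq_zero _).2 (by
    rw [← cancel_mono (e₁.inv ≫ T.f), h, comp_zero, comp_zero]))
  refine ⟨hf, fun h => hO ((IsZero.iff_id_eq_zero _).2 (by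
    rw [← cancel_epi (T.g ≫ e₃.hom), h, zero_comp, zero_comp])), fun h => hf ?_⟩
  rw [← cancel_epi (T.g ≫ e₃.hom), h, comp_zero]

theorem mkF_bijective [Finite k] :
    Function.Bijective (mkF (k := k) (e₁.inv ≫ T.f) (T.g ≫ e₃.hom)) := by
  obtain ⟨hf, -, hn⟩ := ne_zero hT e₁ e₃
  refine ⟨fun p q h => ?_, fun x => ?_⟩
  · simp only [mkF, End.of] at h
    have h1 := congrArg (fun t => (e₁.inv ≫ T.f) ≫ t) h
    simp only [Preadditive.comp_add, Linear.comp_smul, Category.comp_id,
      Category.assoc, ShortComplex.zero_assoc, zero_comp, comp_zero, smul_zero, add_zero] at h1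
    have h1' : p.1 = q.1 := smul_left_injective k hf h1
    rw [h1'] at h
    exact Prod.ext h1' (smul_left_injective k hn (add_left_cancel h))
  · obtain ⟨a, b, rfl⟩ := hom_F_F (k := k) hdim hT e₁ e₃ hns x
    exact ⟨(a, b), rfl⟩

theorem mkE_bijective [Finite k] :
    Function.Bijective (mkE (k := k) (e₁.inv ≫ T.f) (T.g ≫ e₃.hom)) := by
  obtain ⟨hf, hg, hn⟩ := ne_zero hT e₁ e₃
  refine ⟨fun p q h => ?_, fun x => ?_⟩
  · simp only [mkE, End.of] at h
    have h11 := congrArg (fun t => biprod.inl ≫ t ≫ biprod.fst) h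
    have h12 := congrArg (fun t => biprod.inl ≫ t ≫ biprod.snd) h
    have h21 := congrArg (fun t => biprod.inr ≫ t ≫ biprod.fst) h
    have h22 := congrArg (fun t => biprod.inr ≫ t ≫ biprod.snd) h
    simp only [biprod.inl_desc_assoc, biprod.inr_desc_assoc, biprod.lift_fst, biprod.lift_snd] at h11 h12 h21 h22
    have hO : (𝟙 (Coh.structureModule X)) ≠ 0 := fun h0 => hf (by rw [← Category.id_comp (e₁.inv ≫ T.f), h0, zero_comp])
    have a1 := smul_left_injective k hO h11
    have a2 := smul_left_injective k hf h12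
    have a3 := smul_left_injective k hg h21
    have a4 := (mkF_bijective (k := k) hdim hT e₁ e₃ hns).1 (a₁ := (p.1.2, p.2.2.2)) (a₂ := (q.1.2, q.2.2.2)) h22
    simp only [Prod.mk.injEq] at a4
    ext <;> simp [a1, a2, a3, a4.1, a4.2]
  · obtain ⟨a, ha⟩ := exists_smul (k := k) hdim CurvLib.isInvertible_structureModule (biprod.inl ≫ x ≫ biprod.fst)
    obtain ⟨b, hb⟩ := hom_O_F (k := k) hdim hT e₁ e₃ hns (biprod.inl ≫ x ≫ biprod.snd)
    obtain ⟨c, hc⟩ := hom_F_O (k := k) hdim hT e₁ e₃ hns (biprod.inr ≫ x ≫ biprod.fst)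
    obtain ⟨d, e, hde⟩ := hom_F_F (k := k) hdim hT e₁ e₃ hns (biprod.inr ≫ x ≫ biprod.snd)
    refine ⟨((a, d), b, c, e), ?_⟩
    simp only [mkE, End.of]
    apply biprod.hom_ext' <;> apply biprod.hom_ext <;>
      simp only [Category.assoc, biprod.inl_desc_assoc, biprod.inr_desc_assoc, biprod.lift_fst, biprod.lift_snd]
    · exact ha
    · exact hb.symm
    · exact hc.symm
    · exact hde.symm

end EllAutLib

end
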